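import Groth.Agent.InvFldLib.NoName
import Groth.Prelude.Def_W4c2brnrinvarInvFld
import Mathlib.RingTheory.AlgebraicIndependent.Adjoin
import Mathlib.RingTheory.AlgebraicIndependent.Transcendental
import Mathlib.RingTheory.AlgebraicIndependent.AlgebraicClosure
import Mathlib.RingTheory.Localization.FractionRing
import Mathlib.RingTheory.MvPolynomial.Symmetric.FundamentalTheorem

/-!
Rational function fields: generators, the diagonal action on a double set of variables, and the
comparison of the fields of invariants of two linear actions of one finite group.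
-/

universe u

namespace Groth.Agent.InvFldLib

variable {k : Type u} [Field k]

theorem fld_adjoin_X (σ : Type) :
    IntermediateField.adjoin k (Set.range fun i : σ => (InvFld.X i : InvFld.Fld σ k)) = ⊤ := by
  rw [eq_top_iff]
  intro x hxt
  clear hxt
  have key : ∀ p : MvPolynomial σ k, algebraMap _ (InvFld.Fld σ k) p ∈
      IntermediateField.adjoin k (Set.range fun i : σ => (InvFld.X i : InvFld.Fld σ k)) := by
    intro p
    induction p using MvPolynomial.induction_on with
    | C c =>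
      rw [← MvPolynomial.algebraMap_eq, ← IsScalarTower.algebraMap_apply]
      exact IntermediateField.algebraMap_mem _ c
    | add p q hp hq => rw [map_add]; exact add_mem hp hq
    | mul_X p i hp => rw [map_mul]; exact mul_mem hp (IntermediateField.subset_adjoin _ _ ⟨i, rfl⟩)
  obtain ⟨a, b, -, rfl⟩ := IsFractionRing.div_surjective (MvPolynomial σ k) x
  exact div_mem (key a) (key b)

theorem indep_X (σ : Type) :
    AlgebraicIndependent k (fun i : σ => (InvFld.X i : InvFld.Fld σ k)) :=
  (MvPolynomial.algebraicIndependent_X σ k).map'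
    (f := IsScalarTower.toAlgHom k (MvPolynomial σ k) (InvFld.Fld σ k)) (IsFractionRing.injective _ _)

theorem hom_ext {σ : Type} {A : Type*} [CommRing A] [Algebra k A] {f g : InvFld.Fld σ k →ₐ[k] A}
    (h : ∀ i, f (InvFld.X i) = g (InvFld.X i)) : f = g :=
  IsLocalization.algHom_ext (nonZeroDivisors (MvPolynomial σ k))
    (MvPolynomial.algHom_ext fun i => h i)

/-- The embedding along an injection of variables. -/
noncomputable def incl {σ τ : Type} (f : σ → τ) (hf : Function.Injective f) :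
    InvFld.Fld σ k →ₐ[k] InvFld.Fld τ k :=
  IsFractionRing.liftAlgHom (g := (IsScalarTower.toAlgHom k (MvPolynomial τ k) (InvFld.Fld τ k)).comp
      (MvPolynomial.rename f))
    ((IsFractionRing.injective _ _).comp (MvPolynomial.rename_injective f hf))

theorem incl_algebraMap {σ τ : Type} (f : σ → τ) (hf : Function.Injective f) (p : MvPolynomial σ k) :
    incl f hf (algebraMap _ (InvFld.Fld σ k) p) = algebraMap _ _ (MvPolynomial.rename f p) := by
  exact IsFractionRing.lift_algebraMap
    (g := ((IsScalarTower.toAlgHom k (MvPolynomial τ k) (InvFld.Fld τ k)).comp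
      (MvPolynomial.rename f)).toRingHom)
    ((IsFractionRing.injective _ _).comp (MvPolynomial.rename_injective f hf)) p

theorem incl_X {σ τ : Type} (f : σ → τ) (hf : Function.Injective f) (i : σ) :
    incl (k := k) f hf (InvFld.X i) = InvFld.X (f i) := by
  rw [show (InvFld.X i : InvFld.Fld σ k) = algebraMap _ _ (MvPolynomial.X i) from rfl,
    incl_algebraMap, MvPolynomial.rename_X]

theorem incl_range {σ τ : Type} (f : σ → τ) (hf : Function.Injective f) :
    (incl (k := k) f hf).fieldRange =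
      IntermediateField.adjoin k (Set.range fun i : σ => (InvFld.X (f i) : InvFld.Fld τ k)) := by
  rw [AlgHom.fieldRange_eq_map, ← fld_adjoin_X (k := k) σ, IntermediateField.adjoin_map, ← Set.range_comp]
  congr 1
  exact congrArg Set.range (funext fun i => incl_X f hf i)

theorem indep_right {n m : Type} :
    AlgebraicIndependent
      (IntermediateField.adjoin k (Set.range fun j : n => (InvFld.X (Sum.inl j) : InvFld.Fld (n ⊕ m) k)))
      (fun j : m => (InvFld.X (Sum.inr j) : InvFld.Fld (n ⊕ m) k)) := by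
  rw [IntermediateField.algebraicIndependent_adjoin_iff]
  refine (AlgebraicIndependent.sumElim_iff.1 ?_).2
  have h := (indep_X (k := k) (n ⊕ m)).comp Sum.swap Sum.swap_leftInverse.injective
  convert h using 1
  funext i
  rcases i with i | i <;> rfl

/-- `k(x)` with the invariants of a linear action, adjoined the variables of another linear action. -/
theorem exists_invariant_vars {n m : Type} [Finite m]
    (K : Subgroup (InvFld.Fld (n ⊕ m) k ≃ₐ[k] InvFld.Fld (n ⊕ m) k)) [Finite K]
    (hx : ∀ σ ∈ K, ∀ i : n, σ (InvFld.X (Sum.inl i)) ∈ Submodule.span k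
      (Set.range fun j : n => (InvFld.X (Sum.inl j) : InvFld.Fld (n ⊕ m) k)))
    (hy : ∀ σ ∈ K, ∀ i : m, σ (InvFld.X (Sum.inr i)) ∈ Submodule.span k
      (Set.range fun j : m => (InvFld.X (Sum.inr j) : InvFld.Fld (n ⊕ m) k)))
    (hfaith : ∀ σ ∈ K, (∀ i : n, σ (InvFld.X (Sum.inl i)) = InvFld.X (Sum.inl i)) → σ = 1)
    (F : Type*) [Field F] [Algebra k F] [Algebra F (InvFld.Fld (n ⊕ m) k)]
    [IsScalarTower k F (InvFld.Fld (n ⊕ m) k)]
    (hF : ∀ x, x ∈ Set.range (algebraMap F (InvFld.Fld (n ⊕ m) k)) ↔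
      x ∈ IntermediateField.adjoin k
        (Set.range fun j : n => (InvFld.X (Sum.inl j) : InvFld.Fld (n ⊕ m) k)) ∧ ∀ σ ∈ K, σ x = x) :
    ∃ t : Fin (Nat.card m) → InvFld.Fld (n ⊕ m) k, AlgebraicIndependent F t ∧
      (IntermediateField.adjoin F (Set.range t)).restrictScalars k = IntermediateField.fixedField K := by
  classical
  let e := Finite.equivFin m
  set M := IntermediateField.adjoin k
    (Set.range fun j : n => (InvFld.X (Sum.inl j) : InvFld.Fld (n ⊕ m) k)) with hMdef
  let y : Fin (Nat.card m) → InvFld.Fld (n ⊕ m) k := fun j => InvFld.X (Sum.inr (e.symm j))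
  have hyr : Set.range y = Set.range fun j : m => (InvFld.X (Sum.inr j) : InvFld.Fld (n ⊕ m) k) :=
    e.symm.surjective.range_comp (fun j : m => (InvFld.X (Sum.inr j) : InvFld.Fld (n ⊕ m) k))
  have hgen : M ⊔ IntermediateField.adjoin k (Set.range y) = ⊤ := by
    rw [hyr, hMdef, ← IntermediateField.adjoin_union, ← Set.Sum.elim_range,
      ← fld_adjoin_X (k := k) (n ⊕ m)]
    congr 1
    congr 1
    funext i
    rcases i with i | i <;> rfl
  refine noname K M (fun σ hσ x hx' => ?_) (fun σ hσ h => hfaith σ hσ fun i =>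
    h _ (IntermediateField.subset_adjoin _ _ ⟨i, rfl⟩)) y
    (indep_right.comp _ e.symm.injective) (fun σ hσ i => ?_) hgen F hF
  · induction hx' using IntermediateField.adjoin_induction with
    | mem z hz =>
      obtain ⟨i, rfl⟩ := hz
      exact (Submodule.span_le (p := M.toSubalgebra.toSubmodule)).2
        (by rintro _ ⟨j, rfl⟩; exact IntermediateField.subset_adjoin _ _ ⟨j, rfl⟩) (hx σ hσ i)
    | algebraMap c => rw [AlgEquiv.commutes]; exact M.algebraMap_mem c
    | add a b _ _ ha hb => rw [map_add]; exact add_mem ha hb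
    | inv a _ ha => rw [map_inv₀]; exact inv_mem ha
    | mul a b _ _ ha hb => rw [map_mul]; exact mul_mem ha hb
  · rw [hyr]
    exact Submodule.span_le_restrictScalars k M _ (hy σ hσ (e.symm i))

/-- Polynomials representing the images of the variables. -/
theorem exists_poly {n : Type} (G : Subgroup (InvFld.Fld n k ≃ₐ[k] InvFld.Fld n k))
    (hG : ∀ σ ∈ G, ∀ i, σ (InvFld.X i) ∈ Submodule.span k
      (Set.range fun j : n => (InvFld.X j : InvFld.Fld n k))) :
    ∃ l : G → n → MvPolynomial n k,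
      (∀ σ i, algebraMap _ (InvFld.Fld n k) (l σ i) = (σ : InvFld.Fld n k ≃ₐ[k] InvFld.Fld n k) (InvFld.X i)) ∧
      (∀ σ τ i, MvPolynomial.aeval (l σ) (l τ i) = l (σ * τ) i) ∧
      l 1 = MvPolynomial.X := by
  have : ∀ (σ : G) i, ∃ p : MvPolynomial n k,
      algebraMap _ (InvFld.Fld n k) p = (σ : InvFld.Fld n k ≃ₐ[k] InvFld.Fld n k) (InvFld.X i) := by
    intro σ i
    have h := (Submodule.span_le (p := LinearMap.range
      (IsScalarTower.toAlgHom k (MvPolynomial n k) (InvFld.Fld n k)).toLinearMap)).2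
      (by rintro _ ⟨j, rfl⟩; exact ⟨MvPolynomial.X j, rfl⟩) (hG σ σ.2 i)
    obtain ⟨p, hp⟩ := h
    exact ⟨p, hp⟩
  choose l hl using this
  have hcomm : ∀ (σ : G) (p : MvPolynomial n k), algebraMap _ (InvFld.Fld n k) (MvPolynomial.aeval (l σ) p) =
      (σ : InvFld.Fld n k ≃ₐ[k] InvFld.Fld n k) (algebraMap _ (InvFld.Fld n k) p) := by
    intro σ p
    induction p using MvPolynomial.induction_on with
    | C c =>
      simp only [MvPolynomial.aeval_C]
      rw [← MvPolynomial.algebraMap_eq, ← IsScalarTower.algebraMap_apply, AlgEquiv.commutes]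
    | add p q hp hq => simp only [map_add, hp, hq]
    | mul_X p i hp => simp only [map_mul, MvPolynomial.aeval_X, hp, hl]
  have hinj := IsFractionRing.injective (MvPolynomial n k) (InvFld.Fld n k)
  exact ⟨l, hl, fun σ τ i => hinj (by rw [hcomm, hl, hl, Subgroup.coe_mul, AlgEquiv.mul_apply]),
    funext fun i => hinj (by rw [hl, Subgroup.coe_one, AlgEquiv.one_apply])⟩

/-- The diagonal action on the double set of variables. -/
theorem exists_diag {n m : Type}
    (G : Subgroup (InvFld.Fld n k ≃ₐ[k] InvFld.Fld n k))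
    (H : Subgroup (InvFld.Fld m k ≃ₐ[k] InvFld.Fld m k)) (e : G ≃* H)
    (hG : ∀ σ ∈ G, ∀ i, σ (InvFld.X i) ∈ Submodule.span k
      (Set.range fun j : n => (InvFld.X j : InvFld.Fld n k)))
    (hH : ∀ σ ∈ H, ∀ i, σ (InvFld.X i) ∈ Submodule.span k
      (Set.range fun j : m => (InvFld.X j : InvFld.Fld m k))) :
    ∃ Φ : G →* (InvFld.Fld (n ⊕ m) k ≃ₐ[k] InvFld.Fld (n ⊕ m) k),
      (∀ σ x, Φ σ (incl Sum.inl Sum.inl_injective x) =
        incl Sum.inl Sum.inl_injective ((σ : InvFld.Fld n k ≃ₐ[k] InvFld.Fld n k) x)) ∧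
      (∀ σ x, Φ σ (incl Sum.inr Sum.inr_injective x) =
        incl Sum.inr Sum.inr_injective ((e σ : InvFld.Fld m k ≃ₐ[k] InvFld.Fld m k) x)) := by
  obtain ⟨l, hl, hlmul, hl1⟩ := exists_poly G hG
  obtain ⟨l', hl', hlmul', hl1'⟩ := exists_poly H hH
  let ψ : G → (MvPolynomial (n ⊕ m) k →ₐ[k] MvPolynomial (n ⊕ m) k) := fun σ =>
    MvPolynomial.aeval (Sum.elim (fun i => MvPolynomial.rename Sum.inl (l σ i))
      (fun i => MvPolynomial.rename Sum.inr (l' (e σ) i)))
  have hψl : ∀ σ p, ψ σ (MvPolynomial.rename Sum.inl p) =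
      MvPolynomial.rename Sum.inl (MvPolynomial.aeval (l σ) p) := fun σ p =>
    AlgHom.congr_fun (show (ψ σ).comp (MvPolynomial.rename Sum.inl) =
      (MvPolynomial.rename Sum.inl).comp (MvPolynomial.aeval (l σ)) by ext i; simp [ψ]) p
  have hψr : ∀ σ p, ψ σ (MvPolynomial.rename Sum.inr p) =
      MvPolynomial.rename Sum.inr (MvPolynomial.aeval (l' (e σ)) p) := fun σ p =>
    AlgHom.congr_fun (show (ψ σ).comp (MvPolynomial.rename Sum.inr) =
      (MvPolynomial.rename Sum.inr).comp (MvPolynomial.aeval (l' (e σ))) by ext i; simp [ψ]) p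
  have hψmul : ∀ σ τ, (ψ σ).comp (ψ τ) = ψ (σ * τ) := by
    intro σ τ
    refine MvPolynomial.algHom_ext fun i => ?_
    rcases i with i | i
    · simp only [AlgHom.comp_apply, ψ, MvPolynomial.aeval_X, Sum.elim_inl]
      exact (hψl σ _).trans (congrArg _ (hlmul σ τ i))
    · simp only [AlgHom.comp_apply, ψ, MvPolynomial.aeval_X, Sum.elim_inr, map_mul]
      exact (hψr σ _).trans (congrArg _ (hlmul' _ _ i))
  have hψ1 : ψ 1 = AlgHom.id k _ := by
    refine MvPolynomial.algHom_ext fun i => ?_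
    rcases i with i | i <;> simp [ψ, hl1, hl1']
  let Ψ : G →* (MvPolynomial (n ⊕ m) k ≃ₐ[k] MvPolynomial (n ⊕ m) k) :=
    { toFun := fun σ => AlgEquiv.ofAlgHom (ψ σ) (ψ σ⁻¹) (by rw [hψmul, mul_inv_cancel, hψ1])
        (by rw [hψmul, inv_mul_cancel, hψ1])
      map_one' := AlgEquiv.ext fun p => AlgHom.congr_fun hψ1 p
      map_mul' := fun σ τ => AlgEquiv.ext fun p => (AlgHom.congr_fun (hψmul σ τ) p).symm }
  let Φ : G →* (InvFld.Fld (n ⊕ m) k ≃ₐ[k] InvFld.Fld (n ⊕ m) k) :=
    (IsFractionRing.fieldEquivOfAlgEquivHom k (InvFld.Fld (n ⊕ m) k)).comp Ψ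
  have hΦ : ∀ σ p, Φ σ (algebraMap _ _ p) = algebraMap _ _ (ψ σ p) := fun σ p =>
    IsFractionRing.fieldEquivOfAlgEquiv_algebraMap k (InvFld.Fld (n ⊕ m) k) (InvFld.Fld (n ⊕ m) k) (Ψ σ) p
  refine ⟨Φ, fun σ x => ?_, fun σ x => ?_⟩
  · refine AlgHom.congr_fun (φ₁ := (Φ σ).toAlgHom.comp (incl Sum.inl Sum.inl_injective))
      (φ₂ := (incl Sum.inl Sum.inl_injective).comp
        (σ : InvFld.Fld n k ≃ₐ[k] InvFld.Fld n k).toAlgHom) (hom_ext fun i => ?_) x
    show Φ σ (incl Sum.inl Sum.inl_injective (InvFld.X i)) =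
      incl Sum.inl Sum.inl_injective ((σ : InvFld.Fld n k ≃ₐ[k] InvFld.Fld n k) (InvFld.X i))
    rw [incl_X, ← hl, incl_algebraMap, hΦ]
    simp [ψ]
  · refine AlgHom.congr_fun (φ₁ := (Φ σ).toAlgHom.comp (incl Sum.inr Sum.inr_injective))
      (φ₂ := (incl Sum.inr Sum.inr_injective).comp
        (e σ : InvFld.Fld m k ≃ₐ[k] InvFld.Fld m k).toAlgHom) (hom_ext fun i => ?_) x
    show Φ σ (incl Sum.inr Sum.inr_injective (InvFld.X i)) =
      incl Sum.inr Sum.inr_injective ((e σ : InvFld.Fld m k ≃ₐ[k] InvFld.Fld m k) (InvFld.X i))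
    rw [incl_X, ← hl', incl_algebraMap, hΦ]
    simp [ψ]

theorem fixed_transport {n N : Type} (f : n → N) (hf : Function.Injective f)
    (G : Subgroup (InvFld.Fld n k ≃ₐ[k] InvFld.Fld n k))
    (K : Subgroup (InvFld.Fld N k ≃ₐ[k] InvFld.Fld N k)) (q : G → K) (hq : Function.Surjective q)
    (hcomm : ∀ σ x, (q σ : InvFld.Fld N k ≃ₐ[k] InvFld.Fld N k) (incl f hf x) =
      incl f hf ((σ : InvFld.Fld n k ≃ₐ[k] InvFld.Fld n k) x))
    (z : InvFld.Fld N k) :
    z ∈ Set.range (fun x : IntermediateField.fixedField G => incl f hf (x : InvFld.Fld n k)) ↔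
      z ∈ IntermediateField.adjoin k (Set.range fun j : n => (InvFld.X (f j) : InvFld.Fld N k)) ∧
        ∀ τ ∈ K, τ z = z := by
  rw [← incl_range f hf, AlgHom.mem_fieldRange]
  constructor
  · rintro ⟨⟨x, hx⟩, rfl⟩
    refine ⟨⟨x, rfl⟩, fun τ hτ => ?_⟩
    obtain ⟨σ, hσ⟩ := hq ⟨τ, hτ⟩
    rw [show τ = (q σ : InvFld.Fld N k ≃ₐ[k] InvFld.Fld N k) from (congrArg Subtype.val hσ).symm]
    simp only [hcomm]
    rw [(IntermediateField.mem_fixedField_iff G x).1 hx _ σ.2]
  · rintro ⟨⟨x, rfl⟩, hfix⟩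
    refine ⟨⟨x, (IntermediateField.mem_fixedField_iff G x).2 fun σ hσ => ?_⟩, rfl⟩
    exact (incl f hf).toRingHom.injective ((hcomm ⟨σ, hσ⟩ x).symm.trans (hfix _ (q ⟨σ, hσ⟩).2))

/-- Invariant fields of faithful linear actions of one finite group are stably equivalent. -/
theorem stably_equiv (n m : ℕ)
    (G : Subgroup (InvFld.Fld (Fin n) k ≃ₐ[k] InvFld.Fld (Fin n) k)) [Finite G]
    (H : Subgroup (InvFld.Fld (Fin m) k ≃ₐ[k] InvFld.Fld (Fin m) k)) (e : G ≃* H)
    (hG : ∀ σ ∈ G, ∀ i, σ (InvFld.X i) ∈ Submodule.span k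
      (Set.range fun j : Fin n => (InvFld.X j : InvFld.Fld (Fin n) k)))
    (hH : ∀ σ ∈ H, ∀ i, σ (InvFld.X i) ∈ Submodule.span k
      (Set.range fun j : Fin m => (InvFld.X j : InvFld.Fld (Fin m) k))) :
    ∃ r s : ℕ, Nonempty (InvFld.Fld (Fin r) (IntermediateField.fixedField G) ≃ₐ[k]
      InvFld.Fld (Fin s) (IntermediateField.fixedField H)) := by
  classical
  obtain ⟨Φ, hΦl, hΦr⟩ := exists_diag G H e hG hH
  let sw : Fin m ⊕ Fin n → Fin n ⊕ Fin m := Sum.swap
  let L := InvFld.Fld (Fin n ⊕ Fin m) k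
  haveI : Finite Φ.range := Finite.of_surjective Φ.rangeRestrict Φ.rangeRestrict_surjective
  -- first projection
  letI algG : Algebra (IntermediateField.fixedField G) L :=
    ((incl Sum.inl Sum.inl_injective).comp (IntermediateField.fixedField G).val).toRingHom.toAlgebra
  haveI : IsScalarTower k (IntermediateField.fixedField G) L := IsScalarTower.of_algHom
    ((incl Sum.inl Sum.inl_injective).comp (IntermediateField.fixedField G).val)
  have hx : ∀ τ ∈ Φ.range, ∀ i : Fin n, τ (InvFld.X (Sum.inl i)) ∈ Submodule.span k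
      (Set.range fun j : Fin n => (InvFld.X (Sum.inl j) : L)) := by
    rintro _ ⟨σ, rfl⟩ i
    rw [← incl_X Sum.inl Sum.inl_injective i, hΦl]
    have h := Submodule.mem_map_of_mem
      (f := (incl (k := k) (Sum.inl : Fin n → Fin n ⊕ Fin m) Sum.inl_injective).toLinearMap) (hG σ σ.2 i)
    rw [Submodule.map_span, ← Set.range_comp] at h
    refine Submodule.span_mono ?_ h
    rintro _ ⟨j, rfl⟩
    exact ⟨j, (incl_X (k := k) _ (by first | exact Sum.inl_injective | exact Sum.inr_injective) j).symm⟩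
  have hy : ∀ τ ∈ Φ.range, ∀ i : Fin m, τ (InvFld.X (Sum.inr i)) ∈ Submodule.span k
      (Set.range fun j : Fin m => (InvFld.X (Sum.inr j) : L)) := by
    rintro _ ⟨σ, rfl⟩ i
    rw [← incl_X Sum.inr Sum.inr_injective i, hΦr]
    have h := Submodule.mem_map_of_mem
      (f := (incl (k := k) (Sum.inr : Fin m → Fin n ⊕ Fin m) Sum.inr_injective).toLinearMap)
      (hH _ (e σ).2 i)
    rw [Submodule.map_span, ← Set.range_comp] at h
    refine Submodule.span_mono ?_ h
    rintro _ ⟨j, rfl⟩
    exact ⟨j, (incl_X (k := k) _ (by first | exact Sum.inl_injective | exact Sum.inr_injective) j).symm⟩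
  have hfl : ∀ τ ∈ Φ.range, (∀ i : Fin n, τ (InvFld.X (Sum.inl i)) = InvFld.X (Sum.inl i)) → τ = 1 := by
    rintro _ ⟨σ, rfl⟩ h
    suffices σ = 1 by rw [this, map_one]
    refine Subtype.ext (AlgEquiv.ext fun x => AlgHom.congr_fun
      (φ₁ := (σ : InvFld.Fld (Fin n) k ≃ₐ[k] InvFld.Fld (Fin n) k).toAlgHom)
      (φ₂ := AlgHom.id k _) (hom_ext fun i => ?_) x)
    exact (incl (k := k) (Sum.inl : Fin n → Fin n ⊕ Fin m) Sum.inl_injective).toRingHom.injective
      ((hΦl σ (InvFld.X i)).symm.trans (by rw [incl_X, h]; exact (incl_X _ _ i).symm))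
  have hfr : ∀ τ ∈ Φ.range, (∀ i : Fin m, τ (InvFld.X (Sum.inr i)) = InvFld.X (Sum.inr i)) → τ = 1 := by
    rintro _ ⟨σ, rfl⟩ h
    suffices e σ = 1 by rw [show σ = 1 from e.injective (this.trans e.map_one.symm), map_one]
    refine Subtype.ext (AlgEquiv.ext fun x => AlgHom.congr_fun
      (φ₁ := (e σ : InvFld.Fld (Fin m) k ≃ₐ[k] InvFld.Fld (Fin m) k).toAlgHom)
      (φ₂ := AlgHom.id k _) (hom_ext fun i => ?_) x)
    exact (incl (k := k) (Sum.inr : Fin m → Fin n ⊕ Fin m) Sum.inr_injective).toRingHom.injective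
      ((hΦr σ (InvFld.X i)).symm.trans (by rw [incl_X, h]; exact (incl_X _ _ i).symm))
  obtain ⟨t, ht, htr⟩ := exists_invariant_vars Φ.range hx hy hfl (IntermediateField.fixedField G)
    (fun z => fixed_transport Sum.inl Sum.inl_injective G Φ.range Φ.rangeRestrict
      Φ.rangeRestrict_surjective hΦl z)
  -- second projection, via the swapped set of variables
  letI algH : Algebra (IntermediateField.fixedField H) L :=
    ((incl Sum.inr Sum.inr_injective).comp (IntermediateField.fixedField H).val).toRingHom.toAlgebra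
  haveI : IsScalarTower k (IntermediateField.fixedField H) L := IsScalarTower.of_algHom
    ((incl Sum.inr Sum.inr_injective).comp (IntermediateField.fixedField H).val)
  let M' : IntermediateField k L :=
    IntermediateField.adjoin k (Set.range fun j : Fin m => (InvFld.X (Sum.inr j) : L))
  have hMy : AlgebraicIndependent M' (fun j : Fin n => (InvFld.X (Sum.inl j) : L)) := by
    rw [IntermediateField.algebraicIndependent_adjoin_iff]
    refine (AlgebraicIndependent.sumElim_iff.1 ?_).2
    convert indep_X (k := k) (Fin n ⊕ Fin m) using 1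
    funext i
    rcases i with i | i <;> rfl
  have hgen : M' ⊔ IntermediateField.adjoin k
      (Set.range fun j : Fin n => (InvFld.X (Sum.inl j) : L)) = ⊤ := by
    rw [sup_comm, ← IntermediateField.adjoin_union, ← Set.Sum.elim_range,
      ← fld_adjoin_X (k := k) (Fin n ⊕ Fin m)]
    congr 1
    congr 1
    funext i
    rcases i with i | i <;> rfl
  obtain ⟨t', ht', htr'⟩ := noname Φ.range M' (fun τ hτ x hx' => by
      induction hx' using IntermediateField.adjoin_induction with
      | mem z hz =>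
        obtain ⟨i, rfl⟩ := hz
        exact (Submodule.span_le (p := M'.toSubalgebra.toSubmodule)).2
          (by rintro _ ⟨j, rfl⟩; exact IntermediateField.subset_adjoin _ _ ⟨j, rfl⟩) (hy τ hτ i)
      | algebraMap c => rw [AlgEquiv.commutes]; exact M'.algebraMap_mem c
      | add a b _ _ ha hb => rw [map_add]; exact add_mem ha hb
      | inv a _ ha => rw [map_inv₀]; exact inv_mem ha
      | mul a b _ _ ha hb => rw [map_mul]; exact mul_mem ha hb)
    (fun τ hτ h => hfr τ hτ fun i => h _ (IntermediateField.subset_adjoin _ _ ⟨i, rfl⟩))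
    _ hMy (fun τ hτ i => Submodule.span_le_restrictScalars k M' _ (hx τ hτ i)) hgen
    (IntermediateField.fixedField H)
    (fun z => fixed_transport Sum.inr Sum.inr_injective H Φ.range (fun σ => Φ.rangeRestrict (e.symm σ))
      (Φ.rangeRestrict_surjective.comp e.symm.surjective)
      (fun σ x => by simpa using hΦr (e.symm σ) x) z)
  exact ⟨_, _, ⟨(ht.aevalEquivField.restrictScalars k).trans
    ((IntermediateField.equivOfEq (htr.trans htr'.symm)).trans
      (ht'.aevalEquivField.restrictScalars k).symm)⟩⟩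

end Groth.Agent.InvFldLib
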