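import Mathlib.FieldTheory.Galois.Basic
import Mathlib.FieldTheory.IntermediateField.Adjoin.Algebra
import Mathlib.LinearAlgebra.Dual.Lemmas
import Mathlib.LinearAlgebra.LinearIndependent.Lemmas
import Mathlib.RingTheory.AlgebraicIndependent.Defs
import Mathlib.RingTheory.AlgebraicIndependent.Basic

/-!
The no-name lemma: a finite group acting faithfully on a subfield `M`, linearly on independent
variables over `M`, has field of invariants purely transcendental over the invariants of `M`.
-/

universe u v w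

namespace Groth.Agent.InvFldLib

open scoped Polynomial

variable {k : Type u} [Field k] {L : Type v} [Field L] [Algebra k L]

/-- An invertible linear change of independent variables gives independent variables. -/
theorem indep_change {M : Type w} [Field M] [Algebra M L] {ι : Type*} [Fintype ι] {y t : ι → L}
    (hy : AlgebraicIndependent M y) (ht : ∀ i, t i ∈ Submodule.span M (Set.range y))
    (hyt : ∀ i, y i ∈ Submodule.span M (Set.range t)) (hli : LinearIndependent M t) :
    AlgebraicIndependent M t := by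
  classical
  simp only [Submodule.mem_span_range_iff_exists_fun] at ht hyt
  choose A hA using ht
  choose B hB using hyt
  let φ : MvPolynomial ι M →ₐ[M] MvPolynomial ι M :=
    MvPolynomial.aeval fun i => ∑ j, A i j • MvPolynomial.X j
  let ψ : MvPolynomial ι M →ₐ[M] MvPolynomial ι M :=
    MvPolynomial.aeval fun i => ∑ j, B i j • MvPolynomial.X j
  have hφ : (MvPolynomial.aeval t : MvPolynomial ι M →ₐ[M] L) = (MvPolynomial.aeval y).comp φ := by
    ext i; simp [φ, hA]
  have hAB : ∀ i l, ∑ j, A i j * B j l = if i = l then 1 else 0 := by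
    intro i l
    refine (sub_eq_zero.1 (Fintype.linearIndependent_iff.1 hli
      (fun l => ∑ j, A i j * B j l - if i = l then 1 else 0) ?_ l))
    simp only [sub_smul, Finset.sum_sub_distrib, Finset.sum_smul, mul_smul, ite_smul, one_smul, zero_smul,
      Finset.sum_ite_eq, Finset.mem_univ, if_true]
    rw [Finset.sum_comm]
    simp only [← Finset.smul_sum, hB, hA, sub_self]
  have hψ : ψ.comp φ = AlgHom.id M _ := by
    refine MvPolynomial.algHom_ext fun i => ?_
    simp only [AlgHom.comp_apply, φ, ψ, MvPolynomial.aeval_X, map_sum, map_smul, Finset.smul_sum,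
      smul_smul, AlgHom.id_apply]
    rw [Finset.sum_comm]
    simp only [← Finset.sum_smul, hAB, ite_smul, one_smul, zero_smul, Finset.sum_ite_eq,
      Finset.mem_univ, if_true]
  have hinj : Function.Injective φ := Function.LeftInverse.injective (g := ψ) (AlgHom.congr_fun hψ)
  rw [algebraicIndependent_iff_injective_aeval, hφ]
  exact (algebraicIndependent_iff_injective_aeval.1 hy).comp hinj

variable (G : Subgroup (L ≃ₐ[k] L)) [Finite G]

set_option maxHeartbeats 400000 in
/-- The no-name lemma. -/
theorem noname (M : IntermediateField k L) (hM : ∀ σ ∈ G, ∀ x ∈ M, σ x ∈ M)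
    (hfaith : ∀ σ ∈ G, (∀ x ∈ M, σ x = x) → σ = 1)
    {m : ℕ} (y : Fin m → L) (hy : AlgebraicIndependent M y)
    (hspan : ∀ σ ∈ G, ∀ i, σ (y i) ∈ Submodule.span M (Set.range y))
    (hgen : M ⊔ IntermediateField.adjoin k (Set.range y) = ⊤)
    (F : Type w) [Field F] [Algebra k F] [Algebra F L] [IsScalarTower k F L]
    (hF : ∀ x, x ∈ Set.range (algebraMap F L) ↔ x ∈ M ∧ ∀ σ ∈ G, σ x = x) :
    ∃ t : Fin m → L, AlgebraicIndependent F t ∧
      (IntermediateField.adjoin F (Set.range t)).restrictScalars k =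
        IntermediateField.fixedField G := by
  classical
  haveI := Fintype.ofFinite G
  let res : G → ↥M → ↥M := fun σ c => ⟨(σ : L ≃ₐ[k] L) c, hM _ σ.2 _ c.2⟩
  let χ : G → (↥M →* ↥M) := fun σ =>
    { toFun := res σ
      map_one' := Subtype.ext (map_one (σ : L ≃ₐ[k] L))
      map_mul' := fun a b => Subtype.ext (map_mul (σ : L ≃ₐ[k] L) (a : L) (b : L)) }
  have hχ : Function.Injective χ := by
    intro σ τ h
    have := hfaith ((τ : L ≃ₐ[k] L)⁻¹ * σ) (G.mul_mem (G.inv_mem τ.2) σ.2) fun x hx => by
      have := congrArg Subtype.val (DFunLike.congr_fun h ⟨x, hx⟩)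
      change (σ : L ≃ₐ[k] L) x = (τ : L ≃ₐ[k] L) x at this
      show (τ : L ≃ₐ[k] L).symm ((σ : L ≃ₐ[k] L) x) = x
      rw [this, AlgEquiv.symm_apply_apply]
    exact Subtype.ext (by rw [← mul_inv_cancel_left (τ : L ≃ₐ[k] L) σ, this, mul_one])
  have hli : LinearIndependent ↥M (fun σ : G => ⇑(χ σ)) :=
    (linearIndependent_monoidHom ↥M ↥M).comp χ hχ
  have hspanconj : Submodule.span ↥M (Set.range fun c : ↥M => fun σ : G => χ σ c) = ⊤ := by
    by_contra hne
    obtain ⟨f, hf0, hf⟩ :=
      Submodule.exists_dual_map_eq_bot_of_lt_top (lt_top_iff_ne_top.2 hne) inferInstance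
    have h0 : ∀ σ, f (Pi.single σ 1) = 0 := by
      refine Fintype.linearIndependent_iff.1 hli _ ?_
      funext x
      have hx : f (fun σ : G => χ σ x) = 0 := by
        have := Submodule.mem_map_of_mem (f := f) (Submodule.subset_span
          (R := ↥M) (s := Set.range fun c : ↥M => fun σ : G => χ σ c) ⟨x, rfl⟩)
        rw [hf] at this
        simpa using this
      rw [Finset.sum_apply, Pi.zero_apply, ← hx]
      conv_rhs => rw [pi_eq_sum_univ' (fun σ : G => χ σ x)]
      simp only [map_sum, map_smul, smul_eq_mul, Pi.smul_apply]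
      exact Finset.sum_congr rfl fun i _ => mul_comm _ _
    apply hf0
    refine (Pi.basisFun ↥M _).ext fun i => ?_
    simpa using h0 i
  let V : Submodule ↥M L := Submodule.span ↥M (Set.range y)
  let W : Set L := {w | w ∈ V ∧ ∀ σ ∈ G, σ w = w}
  have hWy : ∀ i, y i ∈ Submodule.span ↥M W := by
    intro i
    let T : Submodule ↥M (G → ↥M) :=
      { carrier := {a | ∑ σ : G, a σ • (σ : L ≃ₐ[k] L) (y i) ∈ Submodule.span ↥M W}
        add_mem' := fun {a b} ha hb => by
          simpa [add_smul, Finset.sum_add_distrib] using add_mem ha hb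
        zero_mem' := by simp
        smul_mem' := fun c a (ha : ∑ σ : G, a σ • (σ : L ≃ₐ[k] L) (y i) ∈ Submodule.span ↥M W) => by
          simpa [mul_smul, Finset.smul_sum] using Submodule.smul_mem _ c ha }
    have hT : T = ⊤ := by
      rw [eq_top_iff, ← hspanconj, Submodule.span_le]
      rintro _ ⟨c, rfl⟩
      refine Submodule.subset_span ⟨Submodule.sum_mem _ fun σ _ =>
        Submodule.smul_mem _ _ (hspan _ σ.2 i), fun τ hτ => ?_⟩
      rw [map_sum]
      refine Fintype.sum_equiv (Equiv.mulLeft (⟨τ, hτ⟩ : G)) _ _ fun σ => ?_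
      simp only [Equiv.coe_mulLeft, Algebra.smul_def, map_mul]
      rfl
    have h1 : (Pi.single (1 : G) (1 : ↥M)) ∈ T := by rw [hT]; trivial
    have h2 : ∑ σ : G, (Pi.single (1 : G) (1 : ↥M) : _ → ↥M) σ • (σ : L ≃ₐ[k] L) (y i) ∈
        Submodule.span ↥M W := h1
    rw [Finset.sum_eq_single (1 : G) (fun b _ hb => by simp [hb]) (by simp)] at h2
    simpa using h2
  have hWV : Submodule.span ↥M W = V :=
    le_antisymm (Submodule.span_le.2 fun w hw => hw.1)
      (Submodule.span_le.2 (by rintro _ ⟨i, rfl⟩; exact hWy i))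
  obtain ⟨b, hbW, hbspan, hbli⟩ := exists_linearIndependent ↥M W
  let bV := Module.Basis.span hy.linearIndependent
  haveI : Module.Finite ↥M V := Module.Finite.of_basis bV
  let eqv : Submodule.span ↥M (Set.range ((↑) : b → L)) ≃ₗ[↥M] V :=
    LinearEquiv.ofEq _ _ (by rw [Subtype.range_coe, hbspan, hWV])
  let bb : Module.Basis b ↥M V := (Module.Basis.span hbli).map eqv
  let e : b ≃ Fin m := bb.indexEquiv bV
  let t : Fin m → L := fun i => (e.symm i : L)
  have htW : ∀ i, t i ∈ W := fun i => hbW (e.symm i).2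
  have htspan : Submodule.span ↥M (Set.range t) = V := by
    rw [← hWV, ← hbspan]
    congr 1
    ext x
    exact ⟨by rintro ⟨i, rfl⟩; exact (e.symm i).2, fun hx => ⟨e ⟨x, hx⟩, by simp [t]⟩⟩
  have htM : AlgebraicIndependent ↥M t :=
    indep_change hy (fun i => (htW i).1)
      (fun i => htspan ▸ Submodule.subset_span ⟨i, rfl⟩) (hbli.comp _ e.symm.injective)
  have hFM : ∀ f : F, algebraMap F L f ∈ M := fun f => ((hF _).1 ⟨f, rfl⟩).1
  let φ : F →+* ↥M := (algebraMap F L).codRestrict M.toSubfield hFM
  letI : Algebra F ↥M := φ.toAlgebra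
  haveI : IsScalarTower F ↥M L := IsScalarTower.of_algebraMap_eq fun _ => rfl
  refine ⟨t, htM.restrictScalars φ.injective, ?_⟩
  set E := IntermediateField.adjoin F (Set.range t) with hEdef
  have hfixE : ∀ x ∈ E, ∀ σ ∈ G, σ x = x := by
    intro x hx
    induction hx using IntermediateField.adjoin_induction with
    | mem x hx => obtain ⟨i, rfl⟩ := hx; exact (htW i).2
    | algebraMap f => exact ((hF _).1 ⟨f, rfl⟩).2
    | add x z _ _ hx hz => intro σ hσ; rw [map_add, hx σ hσ, hz σ hσ]
    | inv x _ hx => intro σ hσ; rw [map_inv₀, hx σ hσ]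
    | mul x z _ _ hx hz => intro σ hσ; rw [map_mul, hx σ hσ, hz σ hσ]
  have hTrE : ∀ c ∈ M, ∑ σ : G, (σ : L ≃ₐ[k] L) c ∈ E := by
    intro c hc
    obtain ⟨f, hf⟩ := (hF (∑ σ : G, (σ : L ≃ₐ[k] L) c)).2
      ⟨Subalgebra.sum_mem M.toSubalgebra fun σ _ => hM _ σ.2 c hc, fun τ hτ => by
        rw [map_sum]
        exact Fintype.sum_equiv (Equiv.mulLeft (⟨τ, hτ⟩ : G)) _ _ fun σ => rfl⟩
    exact hf ▸ E.algebraMap_mem f
  have halg : ∀ x ∈ (M : Set L), IsAlgebraic ↥E x := by
    intro x hx
    let P : L[X] := ∏ σ : G, (Polynomial.X - Polynomial.C ((σ : L ≃ₐ[k] L) x))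
    have hP : P.Monic := Polynomial.monic_prod_of_monic _ _ fun σ _ => Polynomial.monic_X_sub_C _
    have hcoe : ∀ i, P.coeff i ∈ Set.range (algebraMap ↥E L) := by
      intro i
      have h1 : P.coeff i ∈ M := by
        let P' : (↥M)[X] := ∏ σ : G, (Polynomial.X - Polynomial.C (res σ ⟨x, hx⟩))
        have : P = P'.map M.val.toRingHom := by
          simp [P, P', res, Polynomial.map_prod]
        rw [this, Polynomial.coeff_map]
        exact (P'.coeff i).2
      have h2 : ∀ τ ∈ G, τ (P.coeff i) = P.coeff i := by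
        intro τ hτ
        have : P.map (τ : L →+* L) = P := by
          simp only [P, Polynomial.map_prod, Polynomial.map_sub, Polynomial.map_X, Polynomial.map_C]
          exact Fintype.prod_equiv (Equiv.mulLeft (⟨τ, hτ⟩ : G)) _ _ fun σ => rfl
        have h := congrArg (fun Q : L[X] => Q.coeff i) this
        simpa [Polynomial.coeff_map] using h
      obtain ⟨f, hf⟩ := (hF _).2 ⟨h1, h2⟩
      exact ⟨⟨_, E.algebraMap_mem f⟩, hf⟩
    obtain ⟨Q, hQ⟩ := (Polynomial.lifts_iff_coeff_lifts P).2 hcoe
    rw [Polynomial.coe_mapRingHom] at hQ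
    refine ⟨Q, fun h => hP.ne_zero (by rw [← hQ, h, Polynomial.map_zero]), ?_⟩
    rw [Polynomial.aeval_def, ← Polynomial.eval_map, hQ, Polynomial.eval_prod]
    exact Finset.prod_eq_zero (Finset.mem_univ (1 : G)) (by simp)
  have htopM : IntermediateField.adjoin ↥E (M : Set L) = ⊤ := by
    rw [eq_top_iff]
    intro x hxt
    clear hxt
    have hx : x ∈ IntermediateField.adjoin k ((M : Set L) ∪ Set.range y) := by
      rw [IntermediateField.adjoin_union, IntermediateField.adjoin_self, hgen]
      exact IntermediateField.mem_top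
    have hyE : ∀ i, y i ∈ IntermediateField.adjoin ↥E (M : Set L) := by
      intro i
      have hyi : y i ∈ Submodule.span ↥M (Set.range t) := htspan ▸ Submodule.subset_span ⟨i, rfl⟩
      generalize y i = yi at hyi ⊢
      induction hyi using Submodule.span_induction with
      | mem z hz =>
        obtain ⟨j, rfl⟩ := hz
        exact (IntermediateField.adjoin ↥E (M : Set L)).algebraMap_mem
          ⟨t j, IntermediateField.subset_adjoin F _ ⟨j, rfl⟩⟩
      | zero => exact zero_mem _
      | add a b _ _ ha hb => exact add_mem ha hb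
      | smul c a _ ha =>
        exact mul_mem (IntermediateField.subset_adjoin (F := ↥E) (M : Set L) c.2) ha
    induction hx using IntermediateField.adjoin_induction with
    | mem z hz =>
      rcases hz with hz | ⟨i, rfl⟩
      · exact IntermediateField.subset_adjoin _ _ hz
      · exact hyE i
    | algebraMap c => exact IntermediateField.subset_adjoin _ _ (M.algebraMap_mem c)
    | add a b _ _ ha hb => exact add_mem ha hb
    | inv a _ ha => exact inv_mem ha
    | mul a b _ _ ha hb => exact mul_mem ha hb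
  refine le_antisymm (fun x hx => (IntermediateField.mem_fixedField_iff G x).2 (hfixE x hx)) fun x hx => ?_
  have hxspan : x ∈ Submodule.span ↥E (M : Set L) := by
    have h := IntermediateField.adjoin_toSubalgebra_of_isAlgebraic halg
    rw [htopM, IntermediateField.top_toSubalgebra] at h
    have hx' : x ∈ Subalgebra.toSubmodule (Algebra.adjoin ↥E (M : Set L)) := by rw [← h]; trivial
    rw [Algebra.adjoin_eq_span] at hx'
    rwa [show (M : Set L) = ((M.toSubalgebra.toSubsemiring.toSubmonoid : Submonoid L) : Set L) from rfl,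
      Submonoid.closure_eq] at hx'
  have key : ∀ c ∈ M, ∑ σ : G, (σ : L ≃ₐ[k] L) (c * x) ∈ E := by
    clear hx
    induction hxspan using Submodule.span_induction with
    | mem z hz => exact fun c hc => hTrE _ (mul_mem hc hz)
    | zero => intro c _; simp
    | add a b _ _ ha hb =>
      intro c hc
      simp only [mul_add, map_add, Finset.sum_add_distrib]
      exact add_mem (ha c hc) (hb c hc)
    | smul r a _ ha =>
      intro c hc
      have : ∀ σ : G, (σ : L ≃ₐ[k] L) (c * (r • a)) = (r : L) * (σ : L ≃ₐ[k] L) (c * a) := by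
        intro σ
        rw [show r • a = (r : L) * a from rfl, mul_left_comm, map_mul, hfixE _ r.2 _ σ.2]
      simp only [this, ← Finset.mul_sum]
      exact mul_mem r.2 (ha c hc)
  obtain ⟨c, hc⟩ : ∃ c : ↥M, ∑ σ : G, χ σ c ≠ 0 := by
    by_contra hcon
    push Not at hcon
    have h0 := Fintype.linearIndependent_iff.1 hli (fun _ => 1) (funext fun c => by simpa using hcon c) 1
    exact one_ne_zero h0
  have hxfix := (IntermediateField.mem_fixedField_iff G x).1 hx
  have h1 := key c c.2
  have hsum : ∑ σ : G, (σ : L ≃ₐ[k] L) ((c : L) * x) = (∑ σ : G, (σ : L ≃ₐ[k] L) (c : L)) * x := by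
    rw [Finset.sum_mul]
    exact Finset.sum_congr rfl fun σ _ => by rw [map_mul, hxfix _ σ.2]
  rw [hsum] at h1
  have hne : (∑ σ : G, (σ : L ≃ₐ[k] L) (c : L)) ≠ 0 := fun h => hc <| Subtype.ext <| by
    simpa [χ, res] using h
  have h3 := mul_mem (inv_mem (hTrE c c.2)) h1
  rwa [inv_mul_cancel_left₀ hne] at h3

end Groth.Agent.InvFldLib
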